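import Cfsg.Agent.H198.FC.DefsB
import Cfsg.Agent.H900.Gen.LForm

/-!
# S5764 [B-C3T]: `StmtBC3` for symplectic forms, the adjoint non-trivial on `E` (helper219)

* `exists_frame`: hyperbolic bases of hermitian spaces over finite fields;
* `th`, `zs`: the operators `x ↦ conj (h x t) u` (semilinear over `E`, skew-adjoint, of square zero);
* `gen_fix`: a ring automorphism of `End_K(V)` which normalizes `E` and fixes four such operators is trivial;
* `fixes`: if `f` and `f ^ (1 + z)` normalize `E` then `f z = z`;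
* `stmtBC3T`: the theorem.
-/

set_option autoImplicit false

namespace Cfsg.Agent.H219.FC

open Cfsg.Agent.H900.Gen Cfsg.Agent.H198.FC Module

universe u v w

/-! ### Hyperbolic bases -/

section hyp

variable {L : Type u} [Field L] {V : Type v} [AddCommGroup V] [Module L V]

/-- hyperbolic families -/
structure Hyp (Φ : LF L V) (m : ℕ) (e f : Fin m → V) : Prop where
  ee : ∀ i j, Φ.h (e i) (e j) = 0
  ff : ∀ i j, Φ.h (f i) (f j) = 0
  ef : ∀ i j, Φ.h (e i) (f j) = if i = j then 1 else 0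

theorem LF_symm {Φ : LF L V} (hε : Φ.ε = 1) (x y : V) : Φ.h y x = Φ.σ (Φ.h x y) := by
  rw [Φ.symm x y, hε, one_mul]

theorem LF_sum_left (Φ : LF L V) {ι : Type*} (s : Finset ι) (g : ι → V) (y : V) :
    Φ.h (∑ i ∈ s, g i) y = ∑ i ∈ s, Φ.h (g i) y := by
  classical
  induction s using Finset.induction_on with
  | empty => rw [Finset.sum_empty, Finset.sum_empty, Φ.zero_left]
  | insert a s ha ih => rw [Finset.sum_insert ha, Finset.sum_insert ha, Φ.add_left, ih]

theorem LF_zero_right (Φ : LF L V) (x : V) : Φ.h x 0 = 0 := by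
  have := Φ.smul_right 0 x 0
  rwa [zero_smul, map_zero, zero_mul] at this

theorem LF_sum_right (Φ : LF L V) {ι : Type*} (s : Finset ι) (g : ι → V) (y : V) :
    Φ.h y (∑ i ∈ s, g i) = ∑ i ∈ s, Φ.h y (g i) := by
  classical
  induction s using Finset.induction_on with
  | empty => rw [Finset.sum_empty, Finset.sum_empty, LF_zero_right]
  | insert a s ha ih => rw [Finset.sum_insert ha, Finset.sum_insert ha, Φ.add_right, ih]

theorem Hyp.fe {Φ : LF L V} (hε : Φ.ε = 1) {m : ℕ} {e f : Fin m → V} (H : Hyp Φ m e f) (i j : Fin m) :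
    Φ.h (f i) (e j) = if i = j then 1 else 0 := by
  rw [LF_symm hε (e j) (f i), H.ef]
  by_cases h : i = j
  · rw [if_pos h, if_pos h.symm, map_one]
  · rw [if_neg h, if_neg (Ne.symm h), map_zero]

theorem Hyp.left_e {Φ : LF L V} (hε : Φ.ε = 1) {m : ℕ} {e f : Fin m → V} (H : Hyp Φ m e f) (a b : Fin m → L)
    (j : Fin m) : Φ.h (∑ i, a i • e i + ∑ i, b i • f i) (e j) = b j := by
  rw [Φ.add_left, LF_sum_left, LF_sum_left]
  simp only [Φ.smul_left, H.ee, H.fe hε, mul_zero, mul_ite, mul_one, Finset.sum_const_zero, zero_add]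
  rw [Finset.sum_ite_eq' Finset.univ j b, if_pos (Finset.mem_univ j)]

theorem Hyp.left_f {Φ : LF L V} {m : ℕ} {e f : Fin m → V} (H : Hyp Φ m e f) (a b : Fin m → L)
    (j : Fin m) : Φ.h (∑ i, a i • e i + ∑ i, b i • f i) (f j) = a j := by
  rw [Φ.add_left, LF_sum_left, LF_sum_left]
  simp only [Φ.smul_left, H.ff, H.ef, mul_zero, mul_ite, mul_one, Finset.sum_const_zero, add_zero]
  rw [Finset.sum_ite_eq' Finset.univ j a, if_pos (Finset.mem_univ j)]

/-- the coordinates -/
def pr (Φ : LF L V) {m : ℕ} (e f : Fin m → V) : V →ₗ[L] (Fin m → L) × (Fin m → L) where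
  toFun v := (fun i => Φ.h v (f i), fun i => Φ.h v (e i))
  map_add' v w := by
    ext i
    · exact Φ.add_left v w (f i)
    · exact Φ.add_left v w (e i)
  map_smul' a v := by
    ext i
    · exact Φ.smul_left a v (f i)
    · exact Φ.smul_left a v (e i)

theorem mem_ker_pr {Φ : LF L V} {m : ℕ} {e f : Fin m → V} {v : V} :
    v ∈ LinearMap.ker (pr Φ e f) ↔ (∀ i, Φ.h v (f i) = 0) ∧ ∀ i, Φ.h v (e i) = 0 := by
  rw [LinearMap.mem_ker]
  constructor
  · intro h
    exact ⟨fun i => congrFun (congrArg Prod.fst h) i, fun i => congrFun (congrArg Prod.snd h) i⟩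
  · rintro ⟨h1, h2⟩
    ext i
    · exact h1 i
    · exact h2 i

theorem Hyp.pr_surj {Φ : LF L V} (hε : Φ.ε = 1) {m : ℕ} {e f : Fin m → V} (H : Hyp Φ m e f) :
    Function.Surjective (pr Φ e f) := by
  rintro ⟨a, b⟩
  refine ⟨∑ i, a i • e i + ∑ i, b i • f i, ?_⟩
  ext j
  · exact H.left_f a b j
  · exact H.left_e hε a b j

/-- the component orthogonal to the family -/
theorem Hyp.proj {Φ : LF L V} (hε : Φ.ε = 1) {m : ℕ} {e f : Fin m → V} (H : Hyp Φ m e f) (v : V) :
    ∃ v' ∈ LinearMap.ker (pr Φ e f), v = v' + (∑ i, Φ.h v (f i) • e i + ∑ i, Φ.h v (e i) • f i) := by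
  refine ⟨v - (∑ i, Φ.h v (f i) • e i + ∑ i, Φ.h v (e i) • f i), ?_, by abel⟩
  rw [mem_ker_pr]
  refine ⟨fun j => ?_, fun j => ?_⟩
  · rw [Φ.sub_left, H.left_f, sub_self]
  · rw [Φ.sub_left, H.left_e hε, sub_self]

theorem Hyp.finrank_ker {Φ : LF L V} (hε : Φ.ε = 1) [FiniteDimensional L V] {m : ℕ} {e f : Fin m → V}
    (H : Hyp Φ m e f) : finrank L (LinearMap.ker (pr Φ e f)) + 2 * m = finrank L V := by
  have h1 := LinearMap.finrank_range_add_finrank_ker (pr Φ e f)
  rw [LinearMap.range_eq_top.2 (H.pr_surj hε), finrank_top, Module.finrank_prod, Module.finrank_fin_fun] at h1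
  omega

/-- trace one -/
theorem exists_trace (Φ : LF L V) : ∃ β : L, β + Φ.σ β = 1 := by
  obtain ⟨a, ha⟩ := Φ.nt
  have h0 : a - Φ.σ a ≠ 0 := sub_ne_zero.2 (Ne.symm ha)
  have h0' : Φ.σ a - a ≠ 0 := sub_ne_zero.2 ha
  refine ⟨a / (a - Φ.σ a), ?_⟩
  rw [map_div₀, map_sub, Φ.inv, ← neg_sub a (Φ.σ a)]
  field_simp
  ring

theorem isotropic {Φ : LF L V} (hε : Φ.ε = 1) [Finite L] (W : Submodule L V) [FiniteDimensional L W]
    (hW : 2 ≤ finrank L W) : ∃ w ∈ W, w ≠ 0 ∧ Φ.h w w = 0 := by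
  have hn : Nontrivial W := Module.nontrivial_of_finrank_pos (R := L) (by omega)
  obtain ⟨⟨w1, hw1⟩, hw10⟩ := exists_ne (0 : W)
  obtain ⟨⟨w2, hw2⟩, hind⟩ := exists_linearIndependent_pair_of_one_lt_finrank (R := L) (by omega) hw10
  rw [LinearIndependent.pair_iff] at hind
  have hw10' : w1 ≠ 0 := fun h => hw10 (Subtype.ext h)
  have key : ∀ s t : L, s • w1 + t • w2 = 0 → s = 0 ∧ t = 0 := fun s t h => hind s t (Subtype.ext h)
  by_cases h1 : Φ.h w1 w1 = 0
  · exact ⟨w1, hw1, hw10', h1⟩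
  have s1 : Φ.σ (Φ.h w1 w1) = Φ.h w1 w1 := (LF_symm hε w1 w1).symm
  set d : L := Φ.h w2 w1 / Φ.h w1 w1 with hd
  set w3 : V := w2 - d • w1 with hw3
  have h31 : Φ.h w3 w1 = 0 := by
    rw [hw3, Φ.sub_left, Φ.smul_left, hd, div_mul_cancel₀ _ h1, sub_self]
  have h13 : Φ.h w1 w3 = 0 := by rw [LF_symm hε w3 w1, h31, map_zero]
  have hw3W : w3 ∈ W := W.sub_mem hw2 (W.smul_mem _ hw1)
  by_cases h3 : Φ.h w3 w3 = 0
  · refine ⟨w3, hw3W, ?_, h3⟩
    intro h
    have h4 : (-d) • w1 + (1 : L) • w2 = 0 := by rw [one_smul, neg_smul, ← h, hw3]; abel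
    exact one_ne_zero (key _ _ h4).2
  have s3 : Φ.σ (Φ.h w3 w3) = Φ.h w3 w3 := (LF_symm hε w3 w3).symm
  obtain ⟨c, hc⟩ := Φ.exists_norm (a := -Φ.h w1 w1 / Φ.h w3 w3) (by rw [map_div₀, map_neg, s1, s3])
  refine ⟨w1 + c • w3, W.add_mem hw1 (W.smul_mem _ hw3W), ?_, ?_⟩
  · intro h
    have h4 : (1 - c * d) • w1 + c • w2 = 0 := by
      rw [← h, hw3, sub_smul, one_smul, smul_sub, mul_smul]
      abel
    obtain ⟨h5, h6⟩ := key _ _ h4
    rw [h6, zero_mul, sub_zero] at h5
    exact one_ne_zero h5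
  · rw [Φ.add_left, Φ.add_right, Φ.add_right, Φ.smul_left, Φ.smul_left, Φ.smul_right, Φ.smul_right, h13, h31,
      mul_zero, mul_zero, add_zero, zero_add, ← mul_assoc, hc, div_mul_cancel₀ _ h3]
    ring

theorem Hyp.step {Φ : LF L V} (hε : Φ.ε = 1) (hnd : ∀ v, (∀ w, Φ.h v w = 0) → v = 0) [Finite L]
    [FiniteDimensional L V] {m : ℕ} {e f : Fin m → V} (H : Hyp Φ m e f) (hm : 2 * (m + 1) ≤ finrank L V) :
    ∃ e' f' : Fin (m + 1) → V, Hyp Φ (m + 1) e' f' := by
  have h1 := H.finrank_ker hε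
  obtain ⟨w, hwW, hw0, hww⟩ := isotropic hε (LinearMap.ker (pr Φ e f)) (by omega)
  rw [mem_ker_pr] at hwW
  have hv : ∃ v, Φ.h w v ≠ 0 := by
    by_contra hcon
    push Not at hcon
    exact hw0 (hnd w hcon)
  obtain ⟨v, hv⟩ := hv
  obtain ⟨v', hv'W, hv'⟩ := H.proj hε v
  rw [mem_ker_pr] at hv'W
  have h2 : Φ.h w v' ≠ 0 := by
    intro h
    apply hv
    rw [hv', Φ.add_right, Φ.add_right, LF_sum_right, LF_sum_right, h]
    simp only [Φ.smul_right, hwW.1, hwW.2, mul_zero, Finset.sum_const_zero, add_zero]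
  -- scale
  obtain ⟨u, hu⟩ : ∃ u : V, u = (Φ.σ (Φ.h w v'))⁻¹ • v' := ⟨_, rfl⟩
  have hwu : Φ.h w u = 1 := by
    rw [hu, Φ.smul_right, map_inv₀, Φ.inv, inv_mul_cancel₀ h2]
  have huw : Φ.h u w = 1 := by rw [LF_symm hε w u, hwu, map_one]
  obtain ⟨β, hβ⟩ := exists_trace Φ
  have huu : Φ.σ (Φ.h u u) = Φ.h u u := (LF_symm hε u u).symm
  obtain ⟨t, ht⟩ : ∃ t : V, t = u + (-(Φ.h u u * β)) • w := ⟨_, rfl⟩
  have htt : Φ.h t t = 0 := by
    rw [ht, Φ.add_left, Φ.add_right, Φ.add_right, Φ.smul_left, Φ.smul_left, Φ.smul_right, Φ.smul_right, hww, hwu,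
      huw, map_neg, map_mul, huu]
    linear_combination (-Φ.h u u) * hβ
  have hwt : Φ.h w t = 1 := by
    rw [ht, Φ.add_right, Φ.smul_right, hww, mul_zero, add_zero, hwu]
  have hte : ∀ i, Φ.h t (e i) = 0 := by
    intro i
    rw [ht, Φ.add_left, Φ.smul_left, hwW.2 i, mul_zero, add_zero, hu, Φ.smul_left, hv'W.2 i, mul_zero]
  have htf : ∀ i, Φ.h t (f i) = 0 := by
    intro i
    rw [ht, Φ.add_left, Φ.smul_left, hwW.1 i, mul_zero, add_zero, hu, Φ.smul_left, hv'W.1 i, mul_zero]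
  refine ⟨Fin.cons w e, Fin.cons t f, ⟨?_, ?_, ?_⟩⟩
  · intro i j
    refine Fin.cases ?_ (fun i => ?_) i <;> refine Fin.cases ?_ (fun j => ?_) j
    · simpa using hww
    · simpa using hwW.2 j
    · simp only [Fin.cons_zero, Fin.cons_succ]
      rw [LF_symm hε w (e i), hwW.2 i, map_zero]
    · simpa using H.ee i j
  · intro i j
    refine Fin.cases ?_ (fun i => ?_) i <;> refine Fin.cases ?_ (fun j => ?_) j
    · simpa using htt
    · simpa using htf j
    · simp only [Fin.cons_zero, Fin.cons_succ]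
      rw [LF_symm hε t (f i), htf i, map_zero]
    · simpa using H.ff i j
  · intro i j
    refine Fin.cases ?_ (fun i => ?_) i <;> refine Fin.cases ?_ (fun j => ?_) j
    · simpa using hwt
    · rw [if_neg (Fin.succ_ne_zero j).symm]
      simpa using hwW.1 j
    · rw [if_neg (Fin.succ_ne_zero i)]
      simp only [Fin.cons_zero, Fin.cons_succ]
      rw [LF_symm hε t (e i), hte i, map_zero]
    · simp only [Fin.cons_succ, Fin.succ_inj]
      exact H.ef i j

theorem exists_hyp {Φ : LF L V} (hε : Φ.ε = 1) (hnd : ∀ v, (∀ w, Φ.h v w = 0) → v = 0) [Finite L]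
    [FiniteDimensional L V] (m : ℕ) (hm : 2 * m ≤ finrank L V) : ∃ e f : Fin m → V, Hyp Φ m e f := by
  induction m with
  | zero => exact ⟨Fin.elim0, Fin.elim0, ⟨fun i => i.elim0, fun i => i.elim0, fun i => i.elim0⟩⟩
  | succ m ih =>
    obtain ⟨e, f, H⟩ := ih (by omega)
    exact H.step hε hnd hm

/-- **hyperbolic basis** of a hermitian space of dimension `≥ 2` over a finite field -/
theorem exists_frame {Φ : LF L V} (hε : Φ.ε = 1) (hnd : ∀ v, (∀ w, Φ.h v w = 0) → v = 0) [Finite L]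
    [FiniteDimensional L V] (h2 : 2 ≤ finrank L V) :
    ∃ (k : ℕ) (e f : Fin (k + 1) → V) (w : V), Hyp Φ (k + 1) e f ∧ (∀ i, Φ.h w (e i) = 0) ∧
      (∀ i, Φ.h w (f i) = 0) ∧
      ∀ v : V, ∃ (a b : Fin (k + 1) → L) (c : L), v = c • w + (∑ i, a i • e i + ∑ i, b i • f i) := by
  obtain ⟨k, hk⟩ : ∃ k, finrank L V / 2 = k + 1 := ⟨finrank L V / 2 - 1, by omega⟩
  obtain ⟨e, f, H⟩ := exists_hyp hε hnd (k + 1) (by omega)
  have h3 := H.finrank_ker hε
  have h4 : finrank L (LinearMap.ker (pr Φ e f)) ≤ 1 := by omega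
  obtain ⟨⟨w, hw⟩, hw'⟩ := finrank_le_one_iff.1 h4
  refine ⟨k, e, f, w, H, (mem_ker_pr.1 hw).2, (mem_ker_pr.1 hw).1, fun v => ?_⟩
  obtain ⟨v', hv', hv⟩ := H.proj hε v
  obtain ⟨c, hc⟩ := hw' ⟨v', hv'⟩
  refine ⟨fun i => Φ.h v (f i), fun i => Φ.h v (e i), c, ?_⟩
  have h5 : c • w = v' := congrArg Subtype.val hc
  rw [h5]
  exact hv

end hyp

/-! ### Four operators -/

section gen

variable {K : Type u} [Field K] {L : Type w} [Field L] [Algebra K L] {V : Type v} [AddCommGroup V] [Module K V]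
  [Module L V] [IsScalarTower K L V]

/-- the operator `x ↦ conj (h x t) u` -/
def th (Φ : LF L V) (hK : ∀ k : K, Φ.σ (algebraMap K L k) = algebraMap K L k) (u t : V) : Module.End K V where
  toFun x := Φ.σ (Φ.h x t) • u
  map_add' x y := by rw [Φ.add_left, map_add, add_smul]
  map_smul' k x := by
    rw [← algebraMap_smul L k x, Φ.smul_left, map_mul, hK, mul_smul, algebraMap_smul, RingHom.id_apply]

theorem th_apply (Φ : LF L V) (hK : ∀ k : K, Φ.σ (algebraMap K L k) = algebraMap K L k) (u t x : V) :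
    th Φ hK u t x = Φ.σ (Φ.h x t) • u := rfl

/-- the operator `x ↦ b x v u` -/
def kap (b : Cl K V) (u v : V) : Module.End K V where
  toFun x := b.B x v • u
  map_add' x y := by rw [b.add_left, add_smul]
  map_smul' k x := by rw [b.smul_left, mul_smul, RingHom.id_apply]

theorem kap_apply (b : Cl K V) (u v x : V) : kap b u v x = b.B x v • u := rfl

theorem mul_kap (b : Cl K V) (X : Module.End K V) (u v : V) : X * kap b u v = kap b (X u) v := by
  apply LinearMap.ext
  intro x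
  rw [Module.End.mul_apply, kap_apply, kap_apply, map_smul]

/-- the sum operators -/
def zs (Φ : LF L V) (hK : ∀ k : K, Φ.σ (algebraMap K L k) = algebraMap K L k) {ι : Type} [Fintype ι] (ρ : ι → ι)
    (g : ι → V) : Module.End K V := ∑ i, th Φ hK (g (ρ i)) (g i)

theorem zs_apply (Φ : LF L V) (hK : ∀ k : K, Φ.σ (algebraMap K L k) = algebraMap K L k) {ι : Type} [Fintype ι]
    (ρ : ι → ι) (g : ι → V) (x : V) : zs Φ hK ρ g x = ∑ i, Φ.σ (Φ.h x (g i)) • g (ρ i) := by
  rw [zs, LinearMap.sum_apply]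
  rfl

theorem zs_smul (Φ : LF L V) (hK : ∀ k : K, Φ.σ (algebraMap K L k) = algebraMap K L k) {ι : Type} [Fintype ι]
    (ρ : ι → ι) (g : ι → V) (a : L) (x : V) : zs Φ hK ρ g (a • x) = Φ.σ a • zs Φ hK ρ g x := by
  rw [zs_apply, zs_apply, Finset.smul_sum]
  refine Finset.sum_congr rfl fun i _ => ?_
  rw [Φ.smul_left, map_mul, mul_smul]

theorem zs_sq (Φ : LF L V) (hK : ∀ k : K, Φ.σ (algebraMap K L k) = algebraMap K L k) {ι : Type} [Fintype ι]
    (ρ : ι → ι) (g : ι → V) (hg : ∀ i j, Φ.h (g i) (g j) = 0) : zs Φ hK ρ g * zs Φ hK ρ g = 0 := by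
  apply LinearMap.ext
  intro x
  rw [Module.End.mul_apply, zs_apply, LinearMap.zero_apply]
  refine Finset.sum_eq_zero fun i _ => ?_
  rw [zs_apply, LF_sum_left]
  rw [Finset.sum_eq_zero, map_zero, zero_smul]
  intro j _
  rw [Φ.smul_left, hg, mul_zero]

theorem th_sq (Φ : LF L V) (hK : ∀ k : K, Φ.σ (algebraMap K L k) = algebraMap K L k) {t : V} (ht : Φ.h t t = 0)
    (a : L) : th Φ hK (a • t) t * th Φ hK (a • t) t = 0 := by
  apply LinearMap.ext
  intro x
  rw [Module.End.mul_apply, th_apply, th_apply, Φ.smul_left, Φ.smul_left, ht, mul_zero, mul_zero, map_zero,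
    zero_smul, LinearMap.zero_apply]

theorem th_smul (Φ : LF L V) (hK : ∀ k : K, Φ.σ (algebraMap K L k) = algebraMap K L k) (u t : V) (a : L) (x : V) :
    th Φ hK u t (a • x) = Φ.σ a • th Φ hK u t x := by
  rw [th_apply, th_apply, Φ.smul_left, map_mul, mul_smul]

theorem B_neg_right (b : Cl K V) (x y : V) : b.B x (-y) = -b.B x y := by
  have h1 := b.add_right x y (-y)
  rw [add_neg_cancel] at h1
  have h2 : b.B x 0 = 0 := by
    have := b.smul_right 0 x 0
    rwa [zero_smul, map_zero, zero_mul] at this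
  rw [h2] at h1
  exact eq_neg_of_add_eq_zero_right h1.symm

theorem B_sum_right (b : Cl K V) {ι : Type*} (s : Finset ι) (g : ι → V) (x : V) :
    b.B x (∑ i ∈ s, g i) = ∑ i ∈ s, b.B x (g i) := by
  classical
  have h2 : b.B x 0 = 0 := by
    have := b.smul_right 0 x 0
    rwa [zero_smul, map_zero, zero_mul] at this
  induction s using Finset.induction_on with
  | empty => rw [Finset.sum_empty, Finset.sum_empty, h2]
  | insert a s ha ih => rw [Finset.sum_insert ha, Finset.sum_insert ha, b.add_right, ih]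

theorem B_sum_left (b : Cl K V) {ι : Type*} (s : Finset ι) (g : ι → V) (x : V) :
    b.B (∑ i ∈ s, g i) x = ∑ i ∈ s, b.B (g i) x := by
  classical
  have h2 : b.B 0 x = 0 := by
    have := b.smul_left 0 0 x
    rwa [zero_smul, zero_mul] at this
  induction s using Finset.induction_on with
  | empty => rw [Finset.sum_empty, Finset.sum_empty, h2]
  | insert a s ha ih => rw [Finset.sum_insert ha, Finset.sum_insert ha, b.add_left, ih]

/-- the adjoint of `th u v` -/
theorem adj_th {Φ : LF L V} (hε : Φ.ε = 1) (hK : ∀ k : K, Φ.σ (algebraMap K L k) = algebraMap K L k) {b : Cl K V}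
    {δ : L} (hδ : δ ≠ 0) (hb : ∀ x y, algebraMap K L (b.B x y) * δ = Φ.h x y - Φ.σ (Φ.h x y)) (u v : V) :
    b.Adj (th Φ hK u v) (-(th Φ hK v u)) := by
  intro x y
  apply FaithfulSMul.algebraMap_injective K L
  apply mul_right_cancel₀ hδ
  rw [hb, LinearMap.neg_apply, B_neg_right, map_neg, neg_mul, hb, th_apply, th_apply, Φ.smul_left, Φ.smul_right,
    Φ.inv, map_mul, map_mul, Φ.inv, LF_symm hε u y, Φ.inv]
  ring

theorem adj_th_smul {Φ : LF L V} (hε : Φ.ε = 1) (hK : ∀ k : K, Φ.σ (algebraMap K L k) = algebraMap K L k)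
    {b : Cl K V} {δ : L} (hδ : δ ≠ 0) (hb : ∀ x y, algebraMap K L (b.B x y) * δ = Φ.h x y - Φ.σ (Φ.h x y))
    (a : L) (t : V) : b.Adj (th Φ hK (a • t) t) (-(th Φ hK (a • t) t)) := by
  have h1 := adj_th hε hK hδ hb (a • t) t
  have h2 : th Φ hK t (a • t) = th Φ hK (a • t) t := by
    apply LinearMap.ext
    intro x
    rw [th_apply, th_apply, Φ.smul_right, map_mul, Φ.inv, mul_comm, mul_smul]
  rwa [h2] at h1

theorem adj_zs {Φ : LF L V} (hε : Φ.ε = 1) (hK : ∀ k : K, Φ.σ (algebraMap K L k) = algebraMap K L k) {b : Cl K V}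
    {δ : L} (hδ : δ ≠ 0) (hb : ∀ x y, algebraMap K L (b.B x y) * δ = Φ.h x y - Φ.σ (Φ.h x y))
    {ι : Type} [Fintype ι] (ρ : ι → ι) (hρ : ∀ i, ρ (ρ i) = i) (g : ι → V) :
    b.Adj (zs Φ hK ρ g) (-(zs Φ hK ρ g)) := by
  intro x y
  have h1 : zs Φ hK ρ g = ∑ i, th Φ hK (g i) (g (ρ i)) := by
    rw [zs]
    refine Finset.sum_bij' (fun i _ => ρ i) (fun i _ => ρ i) (fun _ _ => Finset.mem_univ _)
      (fun _ _ => Finset.mem_univ _) (fun i _ => hρ i) (fun i _ => hρ i) fun i _ => ?_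
    rw [hρ]
  have h2 : (-(zs Φ hK ρ g)) y = ∑ i, (-(th Φ hK (g i) (g (ρ i)))) y := by
    rw [h1, LinearMap.neg_apply, LinearMap.sum_apply, ← Finset.sum_neg_distrib]
    rfl
  rw [h2, B_sum_right, zs, LinearMap.sum_apply, B_sum_left]
  refine Finset.sum_congr rfl fun i _ => ?_
  exact adj_th hε hK hδ hb (g (ρ i)) (g i) x y

end gen

section fix

variable {K : Type u} [Field K] {L : Type w} [Field L] [Algebra K L] {V : Type v} [AddCommGroup V] [Module K V]
  [Module L V] [IsScalarTower K L V]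

/-- a ring automorphism which normalizes `L` and fixes the four operators is trivial -/
theorem gen_fix {Φ : LF L V} (hε : Φ.ε = 1) (hK : ∀ k : K, Φ.σ (algebraMap K L k) = algebraMap K L k)
    {b : Cl K V} {δ : L} (hδ : δ ≠ 0) (hb : ∀ x y, algebraMap K L (b.B x y) * δ = Φ.h x y - Φ.σ (Φ.h x y))
    {k : ℕ} {e f : ZMod (k + 1) → V} {w t : V} (hee : ∀ i j, Φ.h (e i) (e j) = 0) (hff : ∀ i j, Φ.h (f i) (f j) = 0)
    (hef : ∀ i, Φ.h (e i) (f i) = 1) (hef' : ∀ i j, i ≠ j → Φ.h (e i) (f j) = 0) (hwe : ∀ i, Φ.h w (e i) = 0)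
    (hwf : ∀ i, Φ.h w (f i) = 0)
    (hspan : ∀ W : Submodule L V, (∀ i, e i ∈ W) → (∀ i, f i ∈ W) → w ∈ W → W = ⊤)
    {c : L} (hc : c ≠ 0) (ht : t = e 0 + c • f 0 + w)
    (F : Equiv.Perm (Module.End K V)) (hadd : ∀ X Y, F (X + Y) = F X + F Y) (hmul : ∀ X Y, F (X * Y) = F X * F Y)
    (hnorm : ∀ a : L, ∃ a' : L, F (Algebra.lsmul K K V a) = Algebra.lsmul K K V a')
    {γ : L} (hγ : ∀ a : L, a ≠ 0 → ∃ n : ℕ, a = γ ^ n)
    (h0 : F (th Φ hK t t) = th Φ hK t t) (h1 : F (th Φ hK (γ • t) t) = th Φ hK (γ • t) t)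
    (h2 : F (zs Φ hK (fun i => -i) e) = zs Φ hK (fun i => -i) e)
    (h3 : F (zs Φ hK (fun i => 1 - i) f) = zs Φ hK (fun i => 1 - i) f) : F = 1 := by
  classical
  have hfe : ∀ i, Φ.h (f i) (e i) = 1 := fun i => by rw [LF_symm hε (e i), hef, map_one]
  have hfe' : ∀ i j, i ≠ j → Φ.h (f i) (e j) = 0 := fun i j hij => by
    rw [LF_symm hε (e j), hef' j i hij.symm, map_zero]
  have hew : ∀ i, Φ.h (e i) w = 0 := fun i => by rw [LF_symm hε w, hwe, map_zero]
  -- values on the basis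
  have hz2f : ∀ j, zs Φ hK (fun i : ZMod (k + 1) => -i) e (f j) = e (-j) := by
    intro j
    rw [zs_apply, Finset.sum_eq_single j]
    · rw [hfe, map_one, one_smul]
    · intro i _ hij
      rw [hfe' j i hij.symm, map_zero, zero_smul]
    · intro h
      exact absurd (Finset.mem_univ j) h
  have hz2e : ∀ j, zs Φ hK (fun i : ZMod (k + 1) => -i) e (e j) = 0 := by
    intro j
    rw [zs_apply]
    refine Finset.sum_eq_zero fun i _ => ?_
    rw [hee, map_zero, zero_smul]
  have hz2w : zs Φ hK (fun i : ZMod (k + 1) => -i) e w = 0 := by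
    rw [zs_apply]
    refine Finset.sum_eq_zero fun i _ => ?_
    rw [hwe, map_zero, zero_smul]
  have hz3e : ∀ j, zs Φ hK (fun i : ZMod (k + 1) => 1 - i) f (e j) = f (1 - j) := by
    intro j
    rw [zs_apply, Finset.sum_eq_single j]
    · rw [hef, map_one, one_smul]
    · intro i _ hij
      rw [hef' j i hij.symm, map_zero, zero_smul]
    · intro h
      exact absurd (Finset.mem_univ j) h
  have hz3f : ∀ j, zs Φ hK (fun i : ZMod (k + 1) => 1 - i) f (f j) = 0 := by
    intro j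
    rw [zs_apply]
    refine Finset.sum_eq_zero fun i _ => ?_
    rw [hff, map_zero, zero_smul]
  have hz3w : zs Φ hK (fun i : ZMod (k + 1) => 1 - i) f w = 0 := by
    rw [zs_apply]
    refine Finset.sum_eq_zero fun i _ => ?_
    rw [hwf, map_zero, zero_smul]
  set z0 := th Φ hK t t with hz0
  set z1 := th Φ hK (γ • t) t with hz1
  set z2 := zs Φ hK (fun i : ZMod (k + 1) => -i) e with hz2
  set z3 := zs Φ hK (fun i : ZMod (k + 1) => 1 - i) f with hz3
  have hz2t : z2 t = Φ.σ c • e 0 := by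
    rw [ht, map_add, map_add, hz2e, hz2w, zero_add, add_zero, hz2, zs_smul, ← hz2, hz2f, neg_zero]
  have hz3t : z3 t = f 1 := by
    rw [ht, map_add, map_add, hz3e, hz3w, hz3, zs_smul, ← hz3, hz3f, smul_zero, add_zero, add_zero, sub_zero]
  have het : Φ.h (e 0) t = Φ.σ c := by
    rw [ht, Φ.add_right, Φ.add_right, Φ.smul_right, hee, hef, hew, zero_add, mul_one, add_zero]
  have ht0 : t ≠ 0 := by
    intro h
    rw [h, LF_zero_right] at het
    exact hc (Φ.σ.injective (by rw [← het, map_zero]))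
  have hF0 : F 0 = 0 := by
    have := hadd 0 0
    rw [add_zero] at this
    exact (add_eq_left (a := F 0) (b := F 0)).1 this.symm
  have hFneg : ∀ X, F (-X) = -F X := by
    intro X
    have := hadd X (-X)
    rw [add_neg_cancel, hF0] at this
    exact (neg_eq_of_add_eq_zero_right this.symm).symm
  have hF1 : F 1 = 1 := by
    obtain ⟨Y, hY⟩ := F.surjective 1
    have := hmul Y 1
    rw [mul_one, hY, one_mul] at this
    exact this.symm
  have hFpow : ∀ (X : Module.End K V) (n : ℕ), F (X ^ n) = F X ^ n := by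
    intro X n
    induction n with
    | zero => rw [pow_zero, pow_zero, hF1]
    | succ n ih => rw [pow_succ, pow_succ, hmul, ih]
  -- (a) `γ` is fixed
  have hγ' : F (Algebra.lsmul K K V γ) = Algebra.lsmul K K V γ := by
    obtain ⟨γ', hγ'⟩ := hnorm γ
    have e1 : Algebra.lsmul K K V γ * z0 = z1 := by
      apply LinearMap.ext
      intro x
      rw [Module.End.mul_apply, hz0, hz1, th_apply, th_apply, Algebra.lsmul_apply, smul_comm]
    have e2 : Algebra.lsmul K K V γ' * z0 = Algebra.lsmul K K V γ * z0 := by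
      rw [← hγ', ← h0, ← hmul, e1, h1, h0, e1]
    have e3 := LinearMap.congr_fun e2 (e 0)
    rw [Module.End.mul_apply, Module.End.mul_apply, Algebra.lsmul_apply, Algebra.lsmul_apply, hz0, th_apply, het,
      Φ.inv, smul_smul, smul_smul, ← sub_eq_zero, ← sub_smul, smul_eq_zero] at e3
    rcases e3 with e3 | e3
    · rw [← sub_mul, mul_eq_zero] at e3
      rcases e3 with e3 | e3
      · rw [hγ', sub_eq_zero.1 e3]
      · exact absurd e3 hc
    · exact absurd e3 ht0
  -- (b) `L` is fixed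
  have hFL : ∀ a : L, F (Algebra.lsmul K K V a) = Algebra.lsmul K K V a := by
    intro a
    by_cases ha : a = 0
    · rw [ha, map_zero, hF0]
    · obtain ⟨n, rfl⟩ := hγ a ha
      rw [map_pow, hFpow, hγ']
  -- (c) the product `u`
  have hu1 : ∀ n : ℕ, ∀ (a : L) (j : ZMod (k + 1)), ((z2 * z3) ^ n) (a • e j) = a • e (j - n) := by
    intro n
    induction n with
    | zero => intro a j; rw [pow_zero, Module.End.one_apply, Nat.cast_zero, sub_zero]
    | succ n ih =>
      intro a j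
      rw [pow_succ', Module.End.mul_apply, ih, Module.End.mul_apply, hz3, zs_smul, ← hz3, hz3e, hz2, zs_smul,
        Φ.inv, ← hz2, hz2f]
      congr 2
      push_cast
      ring
  have hz23t : ∀ a : L, (z2 * z3) (a • t) = a • e (0 - 1) := by
    intro a
    rw [Module.End.mul_apply, hz3, zs_smul, ← hz3, hz3t, hz2, zs_smul, Φ.inv, ← hz2, hz2f, zero_sub]
  have hut : ∀ a : L, ((z2 * z3) ^ (k + 1)) (a • t) = a • e 0 := by
    intro a
    rw [pow_succ, Module.End.mul_apply, hz23t, hu1]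
    congr 2
    have : ((k : ZMod (k + 1)) + 1) = 0 := by
      have := ZMod.natCast_self (k + 1)
      push_cast at this
      exact this
    linear_combination -this
  have hFu : F ((z2 * z3) ^ (k + 1)) = (z2 * z3) ^ (k + 1) := by rw [hFpow, hmul, h2, h3]
  -- (d) `kap t t`
  have hkap : kap b t t = Algebra.lsmul K K V δ⁻¹ *
      (Algebra.lsmul K K V c⁻¹ * (z0 * ((z2 * z3) ^ (k + 1)) * z0) + -z0) := by
    apply LinearMap.ext
    intro x
    have hz0t : ∀ x, z0 x = Φ.σ (Φ.h x t) • t := fun x => rfl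
    rw [kap_apply, Module.End.mul_apply, LinearMap.add_apply, Module.End.mul_apply, Module.End.mul_apply,
      Module.End.mul_apply, LinearMap.neg_apply, Algebra.lsmul_apply, Algebra.lsmul_apply, hz0t x, hut,
      hz0t, Φ.smul_left, het, map_mul, Φ.inv, Φ.inv, ← sub_eq_add_neg, smul_smul, ← sub_smul, smul_smul,
      ← algebraMap_smul L (b.B x t) t]
    congr 1
    have h4 := hb x t
    field_simp
    linear_combination h4
  have hFkap : F (kap b t t) = kap b t t := by
    rw [hkap, hmul, hadd, hmul, hmul, hmul, hFneg, hFL, hFL, h0, hFu]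
  -- (e) the submodule
  let W : Submodule L V :=
    { carrier := {u | F (kap b u t) = kap b u t}
      add_mem' := by
        intro u v hu hv
        have h5 : kap b (u + v) t = kap b u t + kap b v t := by
          apply LinearMap.ext
          intro x
          rw [LinearMap.add_apply, kap_apply, kap_apply, kap_apply, smul_add]
        change F (kap b (u + v) t) = kap b (u + v) t
        rw [h5, hadd, hu, hv]
      zero_mem' := by
        have h5 : kap b 0 t = 0 := by
          apply LinearMap.ext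
          intro x
          rw [kap_apply, smul_zero, LinearMap.zero_apply]
        change F (kap b 0 t) = kap b 0 t
        rw [h5, hF0]
      smul_mem' := by
        intro a u hu
        have h5 : kap b (a • u) t = Algebra.lsmul K K V a * kap b u t := by
          rw [mul_kap, Algebra.lsmul_apply]
        change F (kap b (a • u) t) = kap b (a • u) t
        rw [h5, hmul, hu, hFL] }
  have hWF : ∀ X : Module.End K V, F X = X → ∀ u ∈ W, X u ∈ W := by
    intro X hX u hu
    change F (kap b (X u) t) = kap b (X u) t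
    rw [← mul_kap, hmul, hX]
    congr 1
  have htW : t ∈ W := hFkap
  have he0W : e 0 ∈ W := by
    have h6 := hWF z2 h2 t htW
    rw [hz2t] at h6
    have hc' : Φ.σ c ≠ 0 := by rwa [Ne, map_eq_zero]
    have h7 := W.smul_mem (Φ.σ c)⁻¹ h6
    rwa [smul_smul, inv_mul_cancel₀ hc', one_smul] at h7
  have heW : ∀ i, e i ∈ W := by
    intro i
    have h6 := hWF ((z2 * z3) ^ (-i).val) (by rw [hFpow, hmul, h2, h3]) (e 0) he0W
    have h7 := hu1 (-i).val 1 0
    rw [one_smul, one_smul] at h7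
    rw [h7, ZMod.natCast_val, ZMod.cast_id, zero_sub, neg_neg] at h6
    exact h6
  have hfW : ∀ i, f i ∈ W := by
    intro i
    have h6 := hWF z3 h3 (e (1 - i)) (heW _)
    rwa [hz3e, sub_sub_cancel] at h6
  have hwW : w ∈ W := by
    have h6 : w = t - (e 0 + c • f 0) := by rw [ht]; abel
    rw [h6]
    exact W.sub_mem htW (W.add_mem he0W (W.smul_mem _ (hfW 0)))
  have hW := hspan W heW hfW hwW
  -- (f) conclusion
  have hy : ∃ y, b.B y t ≠ 0 := by
    by_contra hcon
    push Not at hcon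
    apply hδ
    have h8 := hb
    -- `h x t = conj (h x t)` for all `x`
    have h9 : ∀ x, Φ.h x t = Φ.σ (Φ.h x t) := by
      intro x
      have := hb x t
      rw [hcon, map_zero, zero_mul] at this
      exact sub_eq_zero.1 this.symm
    have h10 : ∀ a : L, Φ.σ a = a := by
      intro a
      have h11 := h9 ((a * (Φ.σ c)⁻¹) • e 0)
      have hc' : Φ.σ c ≠ 0 := by rwa [Ne, map_eq_zero]
      rw [Φ.smul_left, het, mul_assoc, inv_mul_cancel₀ hc', mul_one] at h11
      exact h11.symm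
    obtain ⟨a, ha⟩ := Φ.nt
    exact absurd (h10 a) ha
  obtain ⟨y, hy⟩ := hy
  apply Equiv.ext
  intro X
  apply LinearMap.ext
  intro u
  have hu : F (kap b u t) = kap b u t := by
    have : u ∈ W := by rw [hW]; trivial
    exact this
  have hXu : F (kap b (X u) t) = kap b (X u) t := by
    have : X u ∈ W := by rw [hW]; trivial
    exact this
  rw [← mul_kap, hmul, hu] at hXu
  have h12 := LinearMap.congr_fun hXu y
  rw [Module.End.mul_apply, Module.End.mul_apply, kap_apply, map_smul, map_smul] at h12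
  exact smul_right_injective V hy h12

end fix

/-! ### The theorem -/

section ctx

variable {K : Type u} [Field K] {V : Type v} [AddCommGroup V] [Module K V]

theorem B_skew {b : Cl K V} (hSp : b.IsSp) (v w : V) : b.B w v = -b.B v w := by
  have h := hSp.2 (v + w)
  rw [b.add_left, b.add_right, b.add_right, hSp.2, hSp.2, zero_add, add_zero] at h
  exact eq_neg_of_add_eq_zero_right h

theorem adj_unique {b : Cl K V} (hSp : b.IsSp) {X Y Y' : R K V} (h : b.Adj X Y) (h' : b.Adj X Y') : Y = Y' := by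
  apply LinearMap.ext
  intro w
  rw [← sub_eq_zero]
  apply b.nondeg
  intro v
  rw [B_skew hSp v, sub_eq_add_neg, b.add_right, B_neg_right, ← h v w, ← h' v w, add_neg_cancel, neg_zero]

theorem adj_symm {b : Cl K V} (hSp : b.IsSp) {X Y : R K V} (h : b.Adj X Y) : b.Adj Y X := by
  intro v w
  rw [B_skew hSp w, B_skew hSp (X w), h w v]

/-- the unit `1 + z` -/
def un (z : R K V) (hz : z * z = 0) : (R K V)ˣ where
  val := 1 + z
  inv := 1 - z
  val_inv := by
    have : (1 + z) * (1 - z) = 1 - z * z := by noncomm_ring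
    rw [this, hz, sub_zero]
  inv_val := by
    have : (1 - z) * (1 + z) = 1 - z * z := by noncomm_ring
    rw [this, hz, sub_zero]

theorem un_val (z : R K V) (hz : z * z = 0) : ((un z hz : (R K V)ˣ) : R K V) = 1 + z := rfl

theorem un_inv (z : R K V) (hz : z * z = 0) : (((un z hz)⁻¹ : (R K V)ˣ) : R K V) = 1 - z := rfl

theorem isom_un {b : Cl K V} (z : R K V) (hz : z * z = 0) (hadj : b.Adj z (-z)) : b.Isom (un z hz) := by
  intro v w
  have h1 : z (z w) = 0 := LinearMap.congr_fun hz w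
  have h2 : b.B v 0 = 0 := by
    have := b.smul_right 0 v 0
    rwa [zero_smul, map_zero, zero_mul] at this
  rw [un_val, LinearMap.add_apply, LinearMap.add_apply, Module.End.one_apply, Module.End.one_apply, b.add_left,
    b.add_right, b.add_right, hadj v w, hadj v (z w), LinearMap.neg_apply, LinearMap.neg_apply, B_neg_right, h1,
    neg_zero, h2]
  ring

theorem det_un [Finite K] [Module.Finite K V] (z : R K V) (hz : z * z = 0) :
    LinearMap.det ((un z hz : (R K V)ˣ) : R K V) = 1 := by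
  obtain ⟨p, hp⟩ := CharP.exists K
  have hpp : p.Prime := CharP.char_is_prime K p
  have : Fact p.Prime := ⟨hpp⟩
  have h1 : ∀ n : ℕ, ((1 : R K V) + z) ^ n = 1 + n • z := by
    intro n
    induction n with
    | zero => rw [pow_zero, zero_smul, add_zero]
    | succ n ih =>
      rw [pow_succ, ih, mul_add, mul_one, add_mul, one_mul, smul_mul_assoc, hz, smul_zero, add_zero, succ_nsmul]
      abel
  have h2 : ((1 : R K V) + z) ^ p = 1 := by
    rw [h1, ← Nat.cast_smul_eq_nsmul K p z, CharP.cast_eq_zero, zero_smul, add_zero]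
  have h3 : LinearMap.det ((1 : R K V) + z) ^ p = 1 := by
    rw [← map_pow, h2, map_one]
  have h4 : (LinearMap.det ((1 : R K V) + z) - 1) ^ p = 0 := by
    rw [sub_pow_char, h3, one_pow, sub_self]
  rw [un_val]
  exact sub_eq_zero.1 (pow_eq_zero_iff hpp.ne_zero |>.1 h4)

end ctx

section main

variable {K : Type u} [Field K] {V : Type v} [AddCommGroup V] [Module K V]

/-- the conjugation of `E` -/
theorem exists_conj {b : Cl K V} (hSp : b.IsSp) {E : Subalgebra K (R K V)} (hE : IsField E)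
    (hadj : ∀ X ∈ E, ∃ Y ∈ E, b.Adj X Y) :
    ∃ σ : ↥E ≃+* ↥E, (∀ X : ↥E, b.Adj X (σ X)) ∧ (∀ X, σ (σ X) = X) ∧
      ∀ k : K, σ (algebraMap K E k) = algebraMap K E k := by
  have h : ∀ X : ↥E, ∃ Y : ↥E, b.Adj X Y := fun X => by
    obtain ⟨Y, hY, hXY⟩ := hadj X X.2
    exact ⟨⟨Y, hY⟩, hXY⟩
  choose c hc using h
  have huniq : ∀ X Y : ↥E, b.Adj X Y → c X = Y := fun X Y hXY => Subtype.ext (adj_unique hSp (hc X) hXY)
  have hcc : ∀ X, c (c X) = X := fun X => huniq _ _ (adj_symm hSp (hc X))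
  refine ⟨{ toFun := c, invFun := c, left_inv := hcc, right_inv := hcc, map_add' := ?_, map_mul' := ?_ }, hc, hcc, ?_⟩
  · intro X Y
    rw [hE.mul_comm X Y]
    apply huniq
    intro v w
    have h1 := hc Y (X.1 v) w
    have h2 := hc X v ((c Y).1 w)
    exact h1.trans h2
  · intro X Y
    apply huniq
    intro v w
    have h1 := hc X v w
    have h2 := hc Y v w
    change b.B (X.1 v + Y.1 v) w = b.B v ((c X).1 w + (c Y).1 w)
    rw [b.add_left, b.add_right]
    exact congrArg₂ (· + ·) h1 h2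
  · intro k
    apply huniq
    intro v w
    change b.B (k • v) w = b.B v (k • w)
    rw [b.smul_left, b.smul_right, hSp.1]

/-- `f` fixes `z` if `f` and `f ^ (1 + z)` normalize `E` -/
theorem fixes {b : Cl K V} (hSp : b.IsSp) {E : Subalgebra K (R K V)} (hE : IsField E) {σ : ↥E ≃+* ↥E}
    (hσ : ∀ X : ↥E, b.Adj X (σ X)) (hσσ : ∀ X, σ (σ X) = X) {α : ↥E} (hα : σ α ≠ α) {f : Equiv.Perm (R K V)}
    (hf : f ∈ RB b) (hfE : ∀ X ∈ E, f X ∈ E) {z : R K V} (hz : z * z = 0)
    (hzc : ∀ X : ↥E, z * X = (σ X : R K V) * z)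
    (hf' : ∀ X ∈ E, (cj K V (un z hz) * f * (cj K V (un z hz))⁻¹) X ∈ E) : f z = z := by
  obtain ⟨⟨hadd, hmul⟩, hfadj⟩ := hf
  have hF0 : f 0 = 0 := by
    have := hadd 0 0
    rw [add_zero] at this
    exact (add_eq_left (a := f 0) (b := f 0)).1 this.symm
  have hFneg : ∀ X, f (-X) = -f X := by
    intro X
    have := hadd X (-X)
    rw [add_neg_cancel, hF0] at this
    exact (neg_eq_of_add_eq_zero_right this.symm).symm
  have hF1 : f 1 = 1 := by
    obtain ⟨Y, hY⟩ := f.surjective 1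
    have := hmul Y 1
    rw [mul_one, hY, one_mul] at this
    exact this.symm
  -- elements of `E`
  obtain ⟨a, ha⟩ : ∃ a : ↥E, (a : R K V) = f α := ⟨⟨f α, hfE _ α.2⟩, rfl⟩
  have hσa : (σ a : R K V) = f (σ α) := by
    have h1 : b.Adj (f α) (f (σ α)) := (hfadj _ _).1 (hσ α)
    have h2 : b.Adj (f α) (σ a) := by rw [← ha]; exact hσ a
    exact adj_unique hSp h2 h1
  have hne : σ a ≠ a := by
    intro h
    apply hα
    apply Subtype.ext
    apply f.injective
    rw [← hσa, ← ha, h]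
  obtain ⟨b', hb'⟩ : ∃ b' : ↥E, (b' : R K V) = (cj K V (un z hz) * f * (cj K V (un z hz))⁻¹) α :=
    ⟨⟨_, hf' _ α.2⟩, rfl⟩
  set z' := f z with hz'
  have hz'z' : z' * z' = 0 := by rw [hz', ← hmul, hz, hF0]
  have h3 : (b' : R K V) = (1 + z) * ((1 - z') * a * (1 + z')) * (1 - z) := by
    rw [hb']
    change (cj K V (un z hz)) (f ((cj K V (un z hz))⁻¹ α)) = _
    rw [← map_inv, cj_apply, cj_apply, un_val, inv_inv, un_inv, un_val, hmul, hmul, sub_eq_add_neg, hadd, hadd, hFneg,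
      hF1, ha, ← sub_eq_add_neg]
  have h4 : (b' : R K V) * ((1 + z) * (1 - z')) = ((1 + z) * (1 - z')) * a := by
    rw [h3]
    have e1 : (1 - z) * (1 + z) = (1 : R K V) := (un z hz).inv_val
    have e2 : (1 + z') * (1 - z') = (1 : R K V) := (un z' hz'z').val_inv
    calc (1 + z) * ((1 - z') * a * (1 + z')) * (1 - z) * ((1 + z) * (1 - z'))
        = (1 + z) * ((1 - z') * a * (1 + z')) * ((1 - z) * (1 + z)) * (1 - z') := by noncomm_ring
      _ = (1 + z) * ((1 - z') * a) * ((1 + z') * (1 - z')) := by rw [e1, mul_one]; noncomm_ring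
      _ = ((1 + z) * (1 - z')) * a := by rw [e2, mul_one]; noncomm_ring
  -- commutation rules
  have hza : z * a = (σ a : R K V) * z := hzc a
  have hza' : z * (σ a : R K V) = (a : R K V) * z := by rw [hzc (σ a), hσσ]
  have hz'a : z' * a = (σ a : R K V) * z' := by
    rw [ha, hσa, hz', ← hmul, ← hmul, hzc]
  have hcomm : ∀ X Y : ↥E, (X : R K V) * Y = Y * X := fun X Y => congrArg Subtype.val (hE.mul_comm X Y)
  have hcancel : ∀ X : ↥E, X ≠ 0 → ∀ P : R K V, (X : R K V) * P = 0 → P = 0 := by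
    intro X hX P hP
    obtain ⟨Y, hY⟩ := hE.mul_inv_cancel hX
    have h5 : (Y : R K V) * X = 1 := by rw [hcomm]; exact congrArg Subtype.val hY
    rw [← one_mul P, ← h5, mul_assoc, hP, mul_zero]
  -- the two types
  set P : R K V := ((a - b' : ↥E) : R K V) * (1 - z * z') with hP
  set Q : R K V := ((b' - σ a : ↥E) : R K V) * (z - z') with hQ
  have hPQ : P = Q := by
    have e3 : ((1 + z) * (1 - z')) * a = (a : R K V) * (1 - z * z') + (σ a : R K V) * (z - z') := by
      have : ((1 + z) * (1 - z')) * (a : R K V) = a + z * a - z' * a - z * (z' * a) := by noncomm_ring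
      rw [this, hz'a, hza, ← mul_assoc z, hza']
      noncomm_ring
    have e4 : (b' : R K V) * ((1 + z) * (1 - z')) = (b' : R K V) * (1 - z * z') + b' * (z - z') := by noncomm_ring
    rw [e3, e4] at h4
    rw [hP, hQ, AddSubgroupClass.coe_sub, AddSubgroupClass.coe_sub, sub_mul, sub_mul]
    have e5 : (a : R K V) * (1 - z * z') = (b' : R K V) * (1 - z * z') + b' * (z - z') - (σ a : R K V) * (z - z') := by
      rw [h4]; abel
    rw [e5]
    abel
  have hPa : P * a = a * P := by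
    have : (1 - z * z') * (a : R K V) = a * (1 - z * z') := by
      have : (1 - z * z') * (a : R K V) = a - z * (z' * a) := by noncomm_ring
      rw [this, hz'a, ← mul_assoc z, hza']
      noncomm_ring
    rw [hP, mul_assoc, this, ← mul_assoc, hcomm, mul_assoc]
  have hQa : Q * a = σ a * Q := by
    have : (z - z') * (a : R K V) = (σ a : R K V) * (z - z') := by
      rw [sub_mul, hza, hz'a, mul_sub]
    rw [hQ, mul_assoc, this, ← mul_assoc, hcomm, mul_assoc]
  have hP0 : P = 0 := by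
    apply hcancel (σ a - a) (sub_ne_zero.2 hne)
    rw [AddSubgroupClass.coe_sub, sub_mul, ← hPa, hPQ, hQa, sub_self]
  by_cases hab : a = b'
  · have h6 : Q = 0 := by rw [← hPQ, hP0]
    rw [hQ, ← hab] at h6
    have h7 := hcancel _ (sub_ne_zero.2 hne.symm) _ h6
    exact (sub_eq_zero.1 h7).symm
  · have h6 := hcancel _ (sub_ne_zero.2 hab) _ hP0
    have h7 : z * z' = 1 := (sub_eq_zero.1 h6).symm
    have h8 : z = 0 := by
      calc z = z * (z * z') := by rw [h7, mul_one]
        _ = 0 := by rw [← mul_assoc, hz, zero_mul]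
    have h9 : z' = 0 := by rw [hz', h8, hF0]
    rw [h9, h8]

end main

section final

variable {K : Type u} [Field K] {V : Type v} [AddCommGroup V] [Module K V]

/-- the hermitian form over `E` -/
theorem exists_LF {b : Cl K V} (hSp : b.IsSp) {E : Subalgebra K (R K V)} (hE : IsField E) {σ : ↥E ≃+* ↥E}
    (hσ : ∀ X : ↥E, b.Adj X (σ X)) (hσσ : ∀ X, σ (σ X) = X)
    (hσK : ∀ k : K, σ (algebraMap K E k) = algebraMap K E k) {α : ↥E} (hα : σ α ≠ α)
    (hfix : ∀ a : ↥E, σ a = a → ∃ k : K, algebraMap K E k = a) :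
    letI := hE.toField
    ∃ Φ : LF E V, Φ.ε = 1 ∧ Φ.σ = σ ∧
      (∀ x y, algebraMap K E (b.B x y) * (α - σ α) = Φ.h x y - Φ.σ (Φ.h x y)) := by
  let _ := hE.toField
  have hsm : ∀ (X : ↥E) (v : V), X • v = (X : R K V) v := fun X v => rfl
  have hKs : ∀ (k : K) (v : V), (algebraMap K E k) • v = k • v := fun k v => rfl
  have hbs : ∀ (X : ↥E) (v w : V), b.B (X • v) w = b.B v (σ X • w) := fun X v w => hσ X v w
  have hδ : α - σ α ≠ 0 := sub_ne_zero.2 (Ne.symm hα)
  obtain ⟨T, hT⟩ := hfix (α + σ α) (by rw [map_add, hσσ, add_comm])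
  obtain ⟨N, hN⟩ := hfix (α * σ α) (by rw [map_mul, hσσ, mul_comm])
  have hdec : ∀ a : ↥E, ∃ k₁ k₂ : K, a = algebraMap K E k₁ + algebraMap K E k₂ * α := by
    intro a
    obtain ⟨k₂, hk₂⟩ := hfix ((a - σ a) / (α - σ α)) (by
      rw [map_div₀, map_sub, map_sub, hσσ, hσσ, ← neg_sub a, ← neg_sub α, neg_div_neg_eq])
    obtain ⟨k₁, hk₁⟩ := hfix (a - algebraMap K E k₂ * α) (by
      rw [map_sub, map_mul, hσK, hk₂]
      field_simp
      ring)
    exact ⟨k₁, k₂, by rw [hk₁]; ring⟩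
  let h : V → V → ↥E := fun v w => algebraMap K E (b.B (α • v) w) - algebraMap K E (b.B v w) * σ α
  have hh : ∀ v w, h v w = algebraMap K E (b.B (α • v) w) - algebraMap K E (b.B v w) * σ α := fun _ _ => rfl
  have hadd : ∀ x y z, h (x + y) z = h x z + h y z := by
    intro x y z
    rw [hh, hh, hh, smul_add, b.add_left, b.add_left, map_add, map_add]
    ring
  have hα2 : ∀ x y, b.B (α • α • x) y = T * b.B (α • x) y - N * b.B x y := by
    intro x y
    have h1 : α • α • x = T • (α • x) + (-N) • x := by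
      rw [← hKs, ← hKs, map_neg, hT, hN, smul_smul, smul_smul, ← add_smul]
      congr 1
      ring
    rw [h1, b.add_left, b.smul_left, b.smul_left]
    ring
  have hsα : ∀ x y, h (α • x) y = α * h x y := by
    intro x y
    rw [hh, hh, hα2, map_sub, map_mul, map_mul, hT, hN]
    ring
  have hsK : ∀ (k : K) (x y : V), h (algebraMap K E k • x) y = algebraMap K E k * h x y := by
    intro k x y
    rw [hh, hh, smul_comm, hKs, hKs, b.smul_left, b.smul_left, map_mul, map_mul]
    ring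
  have hsmul : ∀ (a : ↥E) (x y : V), h (a • x) y = a * h x y := by
    intro a x y
    obtain ⟨k₁, k₂, rfl⟩ := hdec a
    rw [add_smul, hadd, hsK, mul_smul, hsK, hsα]
    ring
  have hσh : ∀ x y, σ (h x y) = algebraMap K E (b.B (α • x) y) - algebraMap K E (b.B x y) * α := by
    intro x y
    rw [hh, map_sub, map_mul, hσK, hσK, hσσ]
  have hsymm : ∀ x y, h y x = 1 * σ (h x y) := by
    intro x y
    have h1 : b.B (α • y) x = -(T * b.B x y) + b.B (α • x) y := by
      have h2 : σ α • x = T • x + (-1 : K) • α • x := by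
        rw [← hKs, ← hKs, hT, map_neg, map_one, smul_smul, ← add_smul]
        congr 1
        ring
      rw [hbs, B_skew hSp (σ α • x), h2, b.add_left, b.smul_left, b.smul_left]
      ring
    rw [one_mul, hσh, hh, h1, B_skew hSp x y, map_add, map_neg, map_neg, map_mul, hT]
    ring
  refine ⟨{ h := h, σ := σ, ε := 1, add_left := hadd, smul_left := hsmul, symm := hsymm, inv := hσσ,
            nt := ⟨α, hα⟩, eps := Or.inl rfl }, rfl, rfl, ?_⟩
  intro x y
  change _ = h x y - σ (h x y)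
  rw [hσh, hh]
  ring

end final

section result

variable {K : Type u} [Field K] {V : Type v} [AddCommGroup V] [Module K V]

/-- the fixed field of the conjugation is `K` (any prime degree) -/
theorem fix_conj' {E : Subalgebra K (R K V)} (hE : IsField E) (hp : (finrank K E).Prime) {σ : ↥E ≃+* ↥E}
    (hσK : ∀ k : K, σ (algebraMap K E k) = algebraMap K E k) {α : ↥E} (hα : σ α ≠ α) (a : ↥E) (ha : σ a = a) :
    ∃ k : K, algebraMap K E k = a := by
  have hdom : IsDomain ↥E := hE.isDomain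
  have hs := Subalgebra.isSimpleOrder_of_finrank_prime K ↥E hp
  let W : Subalgebra K ↥E :=
    { carrier := {x | σ x = x}
      add_mem' := by
        intro x y hx hy
        change σ (x + y) = x + y
        rw [map_add, hx, hy]
      mul_mem' := by
        intro x y hx hy
        change σ (x * y) = x * y
        rw [map_mul, hx, hy]
      algebraMap_mem' := hσK }
  rcases hs.eq_bot_or_eq_top W with h | h
  · have haW : a ∈ W := ha
    rw [h] at haW
    exact Algebra.mem_bot.1 haW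
  · exfalso
    apply hα
    have : α ∈ W := by rw [h]; trivial
    exact this

theorem decomp {E : Subalgebra K (R K V)} (hE : IsField E) {σ : ↥E ≃+* ↥E} (hσσ : ∀ X, σ (σ X) = X)
    (hσK : ∀ k : K, σ (algebraMap K E k) = algebraMap K E k) {α : ↥E} (hα : σ α ≠ α)
    (hfix : ∀ a : ↥E, σ a = a → ∃ k : K, algebraMap K E k = a) (a : ↥E) :
    ∃ k₁ k₂ : K, a = algebraMap K E k₁ + algebraMap K E k₂ * α := by
  let _ := hE.toField
  have hδ : α - σ α ≠ 0 := sub_ne_zero.2 (Ne.symm hα)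
  obtain ⟨k₂, hk₂⟩ := hfix ((a - σ a) / (α - σ α)) (by
    rw [map_div₀, map_sub, map_sub, hσσ, hσσ, ← neg_sub a, ← neg_sub α, neg_div_neg_eq])
  obtain ⟨k₁, hk₁⟩ := hfix (a - algebraMap K E k₂ * α) (by
    rw [map_sub, map_mul, hσK, hk₂]
    field_simp
    ring)
  exact ⟨k₁, k₂, by rw [hk₁]; ring⟩

theorem finrank_le_two {E : Subalgebra K (R K V)} {α : ↥E}
    (hdec : ∀ a : ↥E, ∃ k₁ k₂ : K, a = algebraMap K E k₁ + algebraMap K E k₂ * α) : finrank K E ≤ 2 := by
  let g : (Fin 2 → K) →ₗ[K] ↥E :=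
    { toFun := fun x => algebraMap K E (x 0) + algebraMap K E (x 1) * α
      map_add' := by
        intro x y
        rw [Pi.add_apply, Pi.add_apply, map_add, map_add, add_mul]
        abel
      map_smul' := by
        intro k x
        rw [Pi.smul_apply, Pi.smul_apply, smul_eq_mul, smul_eq_mul, map_mul, map_mul, RingHom.id_apply,
          Algebra.smul_def, mul_add, mul_assoc] }
  have hg : LinearMap.range g = ⊤ := by
    rw [LinearMap.range_eq_top]
    intro a
    obtain ⟨k₁, k₂, h⟩ := hdec a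
    exact ⟨![k₁, k₂], h.symm⟩
  have h1 := LinearMap.finrank_range_le g
  rw [hg, finrank_top, Module.finrank_fin_fun] at h1
  exact h1

/-- **S5764 [B-C3T]** `StmtBC3` for symplectic forms with the adjoint non-trivial on `E` (then `[E : K] = 2`) -/
theorem stmtBC3T (K : Type u) [Field K] [Finite K] (V : Type v) [AddCommGroup V] [Module K V] [Module.Finite K V]
    (b : Cl K V) (hn : 4 ≤ finrank K V) (hSp : b.IsSp) (S : Subgroup (Equiv.Perm (R K V))) (hS : S ≤ RB b)
    (E : Subalgebra K (R K V)) (hE : IsField E) (hp : (finrank K E).Prime) (hadj : ∀ X ∈ E, ∃ Y ∈ E, b.Adj X Y)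
    (hnt : ∃ X ∈ E, ¬ b.Adj X X) (hSE : ∀ f ∈ S, ∀ X ∈ E, f X ∈ E) : FiveB b S := by
  obtain ⟨σ, hσ, hσσ, hσK⟩ := exists_conj hSp hE hadj
  obtain ⟨X₀, hX₀, hX₀'⟩ := hnt
  obtain ⟨α, hαX⟩ : ∃ α : ↥E, α = ⟨X₀, hX₀⟩ := ⟨_, rfl⟩
  have hα : σ α ≠ α := by
    intro h
    apply hX₀'
    have h1 := hσ α
    rw [h, hαX] at h1
    exact h1
  have hfix := fix_conj' hE hp hσK hα
  have hdec := decomp hE hσσ hσK hα hfix
  have h2 := finrank_le_two hdec
  have hexi := exists_LF hSp hE hσ hσσ hσK hα hfix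
  let _ := hE.toField
  obtain ⟨Φ, hε, hΦσ, hb⟩ := hexi
  have hK : ∀ k : K, Φ.σ (algebraMap K E k) = algebraMap K E k := by
    intro k
    rw [hΦσ]
    exact hσK k
  have hδ : α - σ α ≠ 0 := sub_ne_zero.2 (Ne.symm hα)
  have hfd : Module.Finite K ↥E := Module.finite_of_finrank_pos hp.pos
  have hfin : Finite ↥E := Module.finite_of_finite K
  have hfd' : Module.Finite ↥E V := Module.Finite.of_restrictScalars_finite K ↥E V
  have hdim : 2 ≤ finrank ↥E V := by
    have h3 := Module.finrank_mul_finrank K ↥E V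
    by_contra hcon
    have h4 : finrank ↥E V ≤ 1 := by omega
    have h5 : finrank K ↥E * finrank ↥E V ≤ 2 * 1 := Nat.mul_le_mul h2 h4
    omega
  have hnd : ∀ v, (∀ w, Φ.h v w = 0) → v = 0 := by
    intro v hv
    apply b.nondeg
    intro w
    have h3 := hb v w
    rw [hv, map_zero, sub_zero, mul_eq_zero] at h3
    rcases h3 with h3 | h3
    · exact (map_eq_zero _).1 h3
    · exact absurd h3 hδ
  obtain ⟨k, e, f, w, H, hwe, hwf, hfr⟩ := exists_frame hε hnd hdim
  -- the isotropic vector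
  have hcx : ∃ c : ↥E, c ≠ 0 ∧ c + Φ.σ c + Φ.h w w = 0 := by
    by_cases hww : Φ.h w w = 0
    · refine ⟨α - σ α, hδ, ?_⟩
      rw [hww, hΦσ, map_sub, hσσ]
      ring
    · obtain ⟨β, hβ⟩ := exists_trace Φ
      have h3 : Φ.σ (Φ.h w w) = Φ.h w w := (LF_symm hε w w).symm
      have h4 : -(Φ.h w w * β) + Φ.σ (-(Φ.h w w * β)) + Φ.h w w = 0 := by
        rw [map_neg, map_mul, h3]
        linear_combination (-Φ.h w w) * hβ
      refine ⟨-(Φ.h w w * β), ?_, h4⟩
      intro h5
      rw [h5, map_zero, add_zero, zero_add] at h4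
      exact hww h4
  obtain ⟨c, hc0, hc⟩ := hcx
  obtain ⟨t, ht⟩ : ∃ t : V, t = e 0 + c • f 0 + w := ⟨_, rfl⟩
  have htt : Φ.h t t = 0 := by
    have h1 : Φ.h (e 0) w = 0 := by rw [LF_symm hε w, hwe, map_zero]
    have h2 : Φ.h (f 0) w = 0 := by rw [LF_symm hε w, hwf, map_zero]
    rw [ht]
    simp only [Φ.add_left, Φ.add_right, Φ.smul_left, Φ.smul_right, H.ee, H.ff, H.ef, H.fe hε, hwe, hwf, h1, h2,
      if_true, mul_zero, mul_one, add_zero, zero_add]
    linear_combination hc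
  -- the generator of `E`
  obtain ⟨γ, hγ⟩ := IsCyclic.exists_generator (α := (↥E)ˣ)
  have hγ' : ∀ a : ↥E, a ≠ 0 → ∃ n : ℕ, a = (γ : ↥E) ^ n := by
    intro a ha
    have h3 := hγ (Units.mk0 a ha)
    rw [← mem_powers_iff_mem_zpowers, Submonoid.mem_powers_iff] at h3
    obtain ⟨n, hn⟩ := h3
    refine ⟨n, ?_⟩
    have h4 := congrArg Units.val hn
    rw [Units.val_pow_eq_pow_val, Units.val_mk0] at h4
    exact h4.symm
  -- the four operators
  obtain ⟨e', he'⟩ : ∃ e' : ZMod (k + 1) → V, e' = e := ⟨e, rfl⟩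
  obtain ⟨f', hf'⟩ : ∃ f' : ZMod (k + 1) → V, f' = f := ⟨f, rfl⟩
  have hee : ∀ i j, Φ.h (e' i) (e' j) = 0 := by rw [he']; exact H.ee
  have hff : ∀ i j, Φ.h (f' i) (f' j) = 0 := by rw [hf']; exact H.ff
  have hef : ∀ i, Φ.h (e' i) (f' i) = 1 := by
    intro i
    rw [he', hf']
    exact (H.ef i i).trans (if_pos rfl)
  have hef' : ∀ i j, i ≠ j → Φ.h (e' i) (f' j) = 0 := by
    intro i j hij
    rw [he', hf']
    exact (H.ef i j).trans (if_neg hij)
  have hwe' : ∀ i, Φ.h w (e' i) = 0 := by rw [he']; exact hwe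
  have hwf' : ∀ i, Φ.h w (f' i) = 0 := by rw [hf']; exact hwf
  have ht' : t = e' 0 + c • f' 0 + w := by rw [he', hf']; exact ht
  let z : Fin 4 → R K V := ![th Φ hK t t, th Φ hK ((γ : ↥E) • t) t, zs Φ hK (fun i => -i) e',
    zs Φ hK (fun i => 1 - i) f']
  have hz : ∀ i, z i * z i = 0 := by
    intro i
    fin_cases i
    · have := th_sq Φ hK htt 1
      rwa [one_smul] at this
    · exact th_sq Φ hK htt (γ : ↥E)
    · exact zs_sq Φ hK _ e' hee
    · exact zs_sq Φ hK _ f' hff
  have hza : ∀ i, b.Adj (z i) (-(z i)) := by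
    intro i
    fin_cases i
    · have := adj_th_smul hε hK hδ hb 1 t
      rwa [one_smul] at this
    · exact adj_th_smul hε hK hδ hb (γ : ↥E) t
    · exact adj_zs hε hK hδ hb _ (fun i => neg_neg i) e'
    · exact adj_zs hε hK hδ hb _ (fun i => sub_sub_cancel 1 i) f'
  have hzc : ∀ i, ∀ X : ↥E, z i * X = (σ X : R K V) * z i := by
    intro i X
    have h3 : ∀ v : V, z i (X • v) = Φ.σ X • z i v := by
      intro v
      fin_cases i
      · exact th_smul Φ hK t t X v
      · exact th_smul Φ hK ((γ : ↥E) • t) t X v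
      · exact zs_smul Φ hK _ e' X v
      · exact zs_smul Φ hK _ f' X v
    apply LinearMap.ext
    intro v
    rw [hΦσ] at h3
    exact h3 v
  refine ⟨fun i => un (z i) (hz i), fun i => det_un (z i) (hz i), fun i => isom_un (z i) (hz i) (hza i), ?_⟩
  intro g hg hgi
  have hgB := hS hg
  have hfixz : ∀ i, g (z i) = z i := fun i =>
    fixes hSp hE hσ hσσ hα hgB (hSE g hg) (hz i) (hzc i) (hSE _ (hgi i))
  have hls : ∀ a : ↥E, Algebra.lsmul K K V a = (a : R K V) := fun a => LinearMap.ext fun v => rfl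
  refine gen_fix hε hK hδ hb hee hff hef hef' hwe' hwf' ?_ hc0 ht' g hgB.1.1 hgB.1.2 ?_ hγ' (hfixz 0) (hfixz 1)
    (hfixz 2) (hfixz 3)
  · intro W heW hfW hwW
    rw [eq_top_iff]
    intro v _
    obtain ⟨a, d, c', hv⟩ := hfr v
    rw [hv]
    rw [he'] at heW
    rw [hf'] at hfW
    exact W.add_mem (W.smul_mem _ hwW) (W.add_mem (W.sum_mem fun i _ => W.smul_mem _ (heW i))
      (W.sum_mem fun i _ => W.smul_mem _ (hfW i)))
  · intro a
    exact ⟨⟨g a, hSE g hg _ a.2⟩, by rw [hls, hls]⟩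

end result

end Cfsg.Agent.H219.FC
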